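import Groth.Agent.FormalFun.Stein
import Groth.Agent.Hensel.Pairs

/-!
# Henselian couples: clopens and idempotents

* `exists_idem_basicOpen` etc. : open-closed subsets of a scheme = idempotent global sections;
* `existsUnique_clopen_of_bijOn` : lifting of open-closed subsets from `f ⁻¹ V(I)` for proper `f`
  over a noetherian affine scheme, given lifting of idempotents of `Γ(X)`.
-/

noncomputable section

universe u

open CategoryTheory Limits AlgebraicGeometry TopologicalSpace Opposite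

namespace Groth.Agent.HenselCouple

theorem eq_zero_or_one {R : Type*} [CommRing R] [IsLocalRing R] {e : R} (he : IsIdempotentElem e) :
    e = 0 ∨ e = 1 := by
  rcases IsLocalRing.isUnit_or_isUnit_one_sub_self e with h | h
  · exact Or.inr (h.mul_left_cancel (by rw [mul_one]; exact he.eq))
  · exact Or.inl (h.mul_right_eq_zero.1 (by rw [sub_mul, one_mul, he.eq, sub_self]))

variable {X : Scheme.{u}}

theorem eq_of_idem_basicOpen_eq {e e' : Γ(X, ⊤)} (he : IsIdempotentElem e) (he' : IsIdempotentElem e')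
    (h : X.basicOpen e = X.basicOpen e') : e = e' := by
  refine TopCat.Presheaf.section_ext X.sheaf ⊤ e e' fun x hx => ?_
  have hiff : IsUnit (X.presheaf.germ ⊤ x hx e) ↔ IsUnit (X.presheaf.germ ⊤ x hx e') := by
    rw [← X.mem_basicOpen e x hx, ← X.mem_basicOpen e' x hx, h]
  rcases eq_zero_or_one (he.map (X.presheaf.germ ⊤ x hx).hom) with h1 | h1 <;>
    rcases eq_zero_or_one (he'.map (X.presheaf.germ ⊤ x hx).hom) with h2 | h2
  all_goals first
    | exact h1.trans h2.symm
    | (exfalso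
       have a1 : (X.presheaf.germ ⊤ x hx e) = _ := h1
       have a2 : (X.presheaf.germ ⊤ x hx e') = _ := h2
       rw [a1, a2] at hiff
       first
        | exact not_isUnit_zero (hiff.2 isUnit_one)
        | exact not_isUnit_zero (hiff.1 isUnit_one))

theorem isClopen_basicOpen {e : Γ(X, ⊤)} (he : IsIdempotentElem e) :
    IsClopen (X.basicOpen e : Set X) := by
  refine ⟨?_, (X.basicOpen e).isOpen⟩
  have : (X.basicOpen e : Set X)ᶜ = (X.basicOpen (1 - e) : Set X) := by
    ext x
    simp only [Set.mem_compl_iff, SetLike.mem_coe]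
    rw [X.mem_basicOpen e x (Set.mem_univ x), X.mem_basicOpen (1 - e) x (Set.mem_univ x), map_sub, map_one]
    rcases eq_zero_or_one (he.map (X.presheaf.germ ⊤ x (Set.mem_univ x)).hom) with h | h <;>
      · change X.presheaf.germ ⊤ x (Set.mem_univ x) e = _ at h
        rw [h]; simp
  rw [← isOpen_compl_iff, this]
  exact (X.basicOpen (1 - e)).isOpen

theorem exists_idem_basicOpen {W : Set X} (hW : IsClopen W) :
    ∃ e : Γ(X, ⊤), IsIdempotentElem e ∧ (X.basicOpen e : Set X) = W := by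
  let U : Bool → X.Opens := fun b => if b then ⟨W, hW.isOpen⟩ else ⟨Wᶜ, hW.compl.isOpen⟩
  let sf : ∀ b, Γ(X, U b) := fun b => if b then 1 else 0
  have hcov : (⊤ : X.Opens) ≤ iSup U := fun x _ => by
    by_cases hx : x ∈ W
    · exact TopologicalSpace.Opens.mem_iSup.2 ⟨true, hx⟩
    · exact TopologicalSpace.Opens.mem_iSup.2 ⟨false, hx⟩
  have hdisj : ∀ i j, i ≠ j → ∀ x, ¬ (x ∈ U i ∧ x ∈ U j) := by
    rintro (_ | _) (_ | _) hij x ⟨h1, h2⟩
    · exact hij rfl
    · exact h1 h2
    · exact h2 h1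
    · exact hij rfl
  obtain ⟨e, he, -⟩ := X.sheaf.existsUnique_gluing' U ⊤ (fun i => homOfLE le_top) hcov sf
    (fun i j => by
      rcases eq_or_ne i j with rfl | hij
      · rfl
      · refine TopCat.Presheaf.section_ext X.sheaf _ _ _ fun x hx => absurd ⟨hx.1, hx.2⟩ (hdisj i j hij x))
  have hgerm : ∀ (b : Bool) x (hx : x ∈ U b),
      X.presheaf.germ ⊤ x (Set.mem_univ x) e = if b then 1 else 0 := fun b x hx => by
    have h1 := congrArg (X.presheaf.germ (U b) x hx) (he b)
    change X.presheaf.germ (U b) x hx (X.presheaf.map (homOfLE le_top).op e) = _ at h1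
    rw [TopCat.Presheaf.germ_res_apply] at h1
    refine h1.trans ?_
    cases b
    · exact map_zero _
    · exact map_one _
  refine ⟨e, TopCat.Presheaf.section_ext X.sheaf ⊤ _ _ fun x hx => ?_, ?_⟩
  · obtain ⟨b, hb⟩ := TopologicalSpace.Opens.mem_iSup.1 (hcov (Set.mem_univ x))
    have := hgerm b x hb
    refine (map_mul (X.presheaf.germ ⊤ x hx).hom e e).trans ?_
    change X.presheaf.germ ⊤ x _ e * X.presheaf.germ ⊤ x _ e = X.presheaf.germ ⊤ x _ e
    rw [this]; cases b <;> simp
  · ext x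
    simp only [SetLike.mem_coe]
    rw [X.mem_basicOpen e x (Set.mem_univ x)]
    by_cases hx : x ∈ W
    · rw [hgerm true x hx]; simpa using hx
    · rw [hgerm false x hx]; simpa using hx

/-- `π` closed, surjective, with preconnected fibres onto `Spec B`; idempotents of `B` and `B ⧸ J`
correspond. Then open-closed subsets of `π ⁻¹ V(J)` lift uniquely. -/
theorem existsUnique_clopen_of_connFibres {Y : Type u} [TopologicalSpace Y] {B : Type u} [CommRing B]
    (π : Y → PrimeSpectrum B) (hc : Continuous π) (hcl : IsClosedMap π)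
    (hs : Function.Surjective π) (hconn : ∀ p, IsPreconnected (π ⁻¹' {p})) (J : Ideal B)
    (hbij : Set.BijOn (Ideal.Quotient.mk J) {e | IsIdempotentElem e} {e | IsIdempotentElem e})
    (W : Set Y) (hW : IsClosed W) (hW' : IsClosed (π ⁻¹' PrimeSpectrum.zeroLocus J \ W))
    (hWsub : W ⊆ π ⁻¹' PrimeSpectrum.zeroLocus J) :
    ∃! U : Set Y, IsClopen U ∧ U ∩ π ⁻¹' PrimeSpectrum.zeroLocus J = W := by
  set Z := PrimeSpectrum.zeroLocus (J : Set B) with hZ
  set q := PrimeSpectrum.comap (Ideal.Quotient.mk J) with hq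
  have hqc : Continuous q := PrimeSpectrum.continuous_comap _
  have hqZ : Set.range q = Z := by
    rw [hq, range_comap_of_surjective _ _ Ideal.Quotient.mk_surjective, Ideal.mk_ker, hZ]
  set W' := π ⁻¹' Z \ W with hW'def
  have hsep : ∀ y ∈ W, ∀ y' ∈ W', π y ≠ π y' := by
    intro y hy y' hy' heq
    have h := isPreconnected_closed_iff.1 (hconn (π y)) W W' hW hW'
      (fun z hz => by
        by_cases hzW : z ∈ W
        · exact Or.inl hzW
        · exact Or.inr ⟨by show π z ∈ Z; rw [show π z = π y from hz]; exact hWsub hy, hzW⟩)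
      ⟨y, rfl, hy⟩ ⟨y', heq.symm, hy'⟩
    obtain ⟨z, -, hz, hz'⟩ := h
    exact hz'.2 hz
  have hcompl : (q ⁻¹' (π '' W))ᶜ = q ⁻¹' (π '' W') := by
    ext p
    have hp : q p ∈ Z := hqZ ▸ Set.mem_range_self p
    obtain ⟨y, hy⟩ := hs (q p)
    constructor
    · intro h
      exact ⟨y, ⟨by show π y ∈ Z; rw [hy]; exact hp, fun hyW => h ⟨y, hyW, hy⟩⟩, hy⟩
    · rintro ⟨y', hy', hy''⟩ ⟨y₀, hy₀, hy₀'⟩
      exact hsep y₀ hy₀ y' hy' (hy₀'.trans hy''.symm)
  have hclop : IsClopen (q ⁻¹' (π '' W)) :=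
    ⟨(hcl W hW).preimage hqc, isClosed_compl_iff.1 (hcompl ▸ (hcl W' hW').preimage hqc)⟩
  obtain ⟨eb, heb, hWeb⟩ := PrimeSpectrum.exists_idempotent_basicOpen_eq_of_isClopen hclop
  obtain ⟨e, he, rfl⟩ := hbij.surjOn heb
  have hcomap : ∀ b : B, q ⁻¹' (PrimeSpectrum.basicOpen b : Set (PrimeSpectrum B)) =
      (PrimeSpectrum.basicOpen (Ideal.Quotient.mk J b) : Set (PrimeSpectrum (B ⧸ J))) := fun b => rfl
  refine ⟨π ⁻¹' (PrimeSpectrum.basicOpen e : Set (PrimeSpectrum B)), ⟨?_, ?_⟩, ?_⟩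
  · exact (PrimeSpectrum.isClopen_iff.2 ⟨e, he, rfl⟩).preimage hc
  · ext y
    constructor
    · rintro ⟨hy, hyZ⟩
      have : π y ∈ Set.range q := hqZ ▸ hyZ
      obtain ⟨p, hp⟩ := this
      have h1 : p ∈ q ⁻¹' (π '' W) := by
        rw [hWeb, ← hcomap]
        show q p ∈ (PrimeSpectrum.basicOpen e : Set (PrimeSpectrum B))
        rw [hp]; exact hy
      obtain ⟨y₀, hy₀, hy₀'⟩ := h1
      by_contra hyW
      exact hsep y₀ hy₀ y ⟨hyZ, hyW⟩ (hy₀'.trans hp)
    · intro hy
      refine ⟨?_, hWsub hy⟩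
      have : π y ∈ Set.range q := hqZ ▸ hWsub hy
      obtain ⟨p, hp⟩ := this
      have h1 : p ∈ q ⁻¹' (π '' W) := ⟨y, hy, hp.symm⟩
      rw [hWeb, ← hcomap] at h1
      show π y ∈ (PrimeSpectrum.basicOpen e : Set (PrimeSpectrum B))
      rw [← hp]; exact h1
  · rintro U ⟨hU, hUW⟩
    have hfib : ∀ y y', π y = π y' → y ∈ U → y' ∈ U := fun y y' h hy =>
      (hconn (π y)).subset_isClopen hU ⟨y, rfl, hy⟩ h.symm
    have hπU : IsClopen (π '' U) := by
      refine ⟨hcl U hU.isClosed, isClosed_compl_iff.1 ?_⟩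
      have : (π '' U)ᶜ = π '' Uᶜ := by
        ext p
        constructor
        · intro h
          obtain ⟨y, rfl⟩ := hs p
          exact ⟨y, fun hy => h ⟨y, hy, rfl⟩, rfl⟩
        · rintro ⟨y, hy, rfl⟩ ⟨y', hy', h⟩
          exact hy (hfib y' y h hy')
      rw [this]
      exact hcl _ hU.compl.isClosed
    obtain ⟨e', he', hUe'⟩ := PrimeSpectrum.exists_idempotent_basicOpen_eq_of_isClopen hπU
    have heq : Ideal.Quotient.mk J e' = Ideal.Quotient.mk J e := by
      refine PrimeSpectrum.basicOpen_injOn_isIdempotentElem (he'.map _) (he.map _) (SetLike.ext' ?_)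
      rw [← hcomap, ← hUe', ← hWeb]
      ext p
      have hp : q p ∈ Z := hqZ ▸ Set.mem_range_self p
      constructor
      · rintro ⟨y, hy, hy'⟩
        exact ⟨y, hUW ▸ ⟨hy, by show π y ∈ Z; rw [hy']; exact hp⟩, hy'⟩
      · rintro ⟨y, hy, hy'⟩
        rw [← hUW] at hy
        exact ⟨y, hy.1, hy'⟩
    rw [← hbij.injOn he' he heq, ← hUe']
    ext y
    exact ⟨fun hy => ⟨y, hy, rfl⟩, fun ⟨y', hy', h⟩ => hfib y' y h hy'⟩

/-- Stein factorisation over a noetherian affine base. -/
theorem toSpecΓ_connFibres {A : Type u} [CommRing A] [IsNoetherianRing A]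
    (f : X ⟶ Spec (CommRingCat.of A)) [IsProper f] :
    IsClosedMap X.toSpecΓ ∧ Function.Surjective X.toSpecΓ ∧
      ∀ p, _root_.IsPreconnected (X.toSpecΓ ⁻¹' {p}) := by
  haveI := SteinLead.isFinite_fromNormalization f
  haveI : IsLocallyNoetherian f.normalization := LocallyOfFiniteType.isLocallyNoetherian f.fromNormalization
  haveI : IsAffine f.normalization := isAffine_of_isAffineHom f.fromNormalization
  haveI := FormalFun.isProper_toNormalization f
  haveI := FormalFun.isIso_app_toNormalization f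
  haveI : IsIso f.toNormalization.appTop := FormalFun.isIso_app_toNormalization f ⊤
  let e : f.normalization ≅ Spec Γ(X, ⊤) :=
    asIso f.normalization.toSpecΓ ≪≫ (asIso (Spec.map f.toNormalization.appTop)).symm
  have hfac : X.toSpecΓ = f.toNormalization ≫ e.hom := by
    simp only [e, Iso.trans_hom, asIso_hom, Iso.symm_hom, asIso_inv, ← Category.assoc]
    rw [Scheme.toSpecΓ_naturality, Category.assoc, IsIso.hom_inv_id, Category.comp_id]
  have hsurj := FormalFun.surjective_toNormalization f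
  rw [hfac]
  refine ⟨?_, ?_, fun p => ?_⟩
  · exact e.hom.homeomorph.isClosedMap.comp f.toNormalization.isClosedMap
  · exact e.hom.homeomorph.surjective.comp hsurj.surj
  · have : (f.toNormalization ≫ e.hom) ⁻¹' {p} = f.toNormalization ⁻¹' {e.hom.homeomorph.symm p} := by
      ext x
      simp only [Set.mem_preimage, Set.mem_singleton_iff, Scheme.Hom.comp_apply]
      exact ⟨fun h => by rw [← h]; exact (e.hom.homeomorph.symm_apply_apply _).symm,
        fun h => by rw [h]; exact e.hom.homeomorph.apply_symm_apply _⟩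
    rw [this]
    exact FormalFun.isPreconnected_fibre f.toNormalization
      (fun V _ => haveI := FormalFun.isIso_app_toNormalization f V
        (ConcreteCategory.bijective_of_isIso (f.toNormalization.app V)).2) _

theorem toSpecΓ_connFibres_affine [IsAffine X] :
    IsClosedMap X.toSpecΓ ∧ Function.Surjective X.toSpecΓ ∧
      ∀ p, _root_.IsPreconnected (X.toSpecΓ ⁻¹' {p}) :=
  ⟨X.toSpecΓ.homeomorph.isClosedMap, X.toSpecΓ.homeomorph.surjective, fun _ =>
    (Set.subsingleton_singleton.preimage X.toSpecΓ.homeomorph.injective).isPreconnected⟩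

/-- The structure map `A → Γ(X)`. -/
abbrev algMap {A : Type u} [CommRing A] (f : X ⟶ Spec (CommRingCat.of A)) : A →+* Γ(X, ⊤) :=
  ((Scheme.ΓSpecIso (CommRingCat.of A)).inv ≫ f.appTop).hom

theorem toSpecΓ_map_algMap {A : Type u} [CommRing A] (f : X ⟶ Spec (CommRingCat.of A)) :
    X.toSpecΓ ≫ Spec.map (CommRingCat.ofHom (algMap f)) = f := by
  rw [algMap, CommRingCat.ofHom_hom, Spec.map_comp, ← Category.assoc, ← Scheme.toSpecΓ_naturality,
    Category.assoc, ← SpecMap_ΓSpecIso_hom, ← Spec.map_comp, Iso.inv_hom_id, Spec.map_id,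
    Category.comp_id]

theorem finite_algMap {A : Type u} [CommRing A] [IsNoetherianRing A]
    (f : X ⟶ Spec (CommRingCat.of A)) [IsProper f] : (algMap f).Finite :=
  RingHom.Finite.comp (FormalFun.finite_app f (isAffineOpen_top _))
    (RingHom.Finite.of_surjective _
      (ConcreteCategory.bijective_of_isIso (Scheme.ΓSpecIso (CommRingCat.of A)).inv).2)

/-- Idempotent lifting in `Γ(X)` gives lifting of open-closed subsets, when `X → Spec Γ(X)` is
closed, surjective and has connected fibres (`toSpecΓ_connFibres`, `toSpecΓ_connFibres_affine`). -/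
theorem existsUnique_clopen_of_bijOn {A : Type u} [CommRing A]
    (f : X ⟶ Spec (CommRingCat.of A))
    (hfib : IsClosedMap X.toSpecΓ ∧ Function.Surjective X.toSpecΓ ∧
      ∀ p, _root_.IsPreconnected (X.toSpecΓ ⁻¹' {p})) (I : Ideal A)
    (hbij : Set.BijOn (Ideal.Quotient.mk (I.map (algMap f))) {e | IsIdempotentElem e}
      {e | IsIdempotentElem e})
    {P : Scheme.{u}} (j : P ⟶ X) (hj : Topology.IsClosedEmbedding j)
    (hr : Set.range j = f ⁻¹' PrimeSpectrum.zeroLocus (I : Set A))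
    (V : Set P) (hV : IsClopen V) :
    ∃! U : Set X, IsClopen U ∧ j ⁻¹' U = V := by
  obtain ⟨h1, h2, h3⟩ := hfib
  have hr' : Set.range j = X.toSpecΓ ⁻¹' PrimeSpectrum.zeroLocus ((I.map (algMap f) : Ideal Γ(X, ⊤)) : Set Γ(X, ⊤)) := by
    rw [hr]
    conv_lhs => rw [← toSpecΓ_map_algMap f]
    rw [Scheme.Hom.comp_base, TopCat.coe_comp, Set.preimage_comp, Ideal.map, PrimeSpectrum.zeroLocus_span]
    exact congrArg (X.toSpecΓ ⁻¹' ·) (PrimeSpectrum.preimage_comap_zeroLocus (algMap f) (I : Set A))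
  have hd : Set.range j \ j '' V = j '' Vᶜ := by
    rw [Set.compl_eq_univ_sdiff, Set.image_sdiff hj.injective, Set.image_univ]
  obtain ⟨U, ⟨hU, hUW⟩, huniq⟩ := existsUnique_clopen_of_connFibres X.toSpecΓ X.toSpecΓ.continuous h1 h2 h3
    (I.map (algMap f)) hbij (j '' V) (hj.isClosedMap V hV.isClosed)
    (hr' ▸ hd ▸ hj.isClosedMap _ hV.compl.isClosed) (hr' ▸ Set.image_subset_range _ _)
  refine ⟨U, ⟨hU, ?_⟩, fun U' ⟨hU', hU'V⟩ => huniq U' ⟨hU', ?_⟩⟩
  · ext y
    constructor
    · intro hy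
      have : j y ∈ j '' V := hUW ▸ ⟨hy, hr' ▸ Set.mem_range_self y⟩
      exact hj.injective.mem_set_image.1 this
    · intro hy
      exact (hUW.symm ▸ Set.mem_image_of_mem j hy : j y ∈ U ∩ _).1
  · rw [← hU'V, Set.image_preimage_eq_inter_range, hr']
    rfl

end Groth.Agent.HenselCouple
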