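import Mathlib.AlgebraicGeometry.Morphisms.Flat
import Mathlib.AlgebraicGeometry.Morphisms.ClosedImmersion

/-!
# Global sections and flat base change
-/

noncomputable section

universe u

open CategoryTheory Limits AlgebraicGeometry TopologicalSpace TensorProduct

namespace Groth.Agent.HenselCouple

theorem appLE_top {W Z : Scheme.{u}} (f : W ⟶ Z) (e : (⊤ : W.Opens) ≤ f ⁻¹ᵁ ⊤) :
    f.appLE ⊤ ⊤ e = f.appTop :=
  Scheme.Hom.appLE_eq_app f

/-- Global sections of a flat base change along affine schemes. -/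
theorem isPushout_of_flat {X P : Scheme.{u}} [CompactSpace X] [QuasiSeparatedSpace X] {B C : CommRingCat.{u}}
    (iX : X ⟶ Spec B) (φ : B ⟶ C) (hφ : φ.hom.Flat) {sX : P ⟶ X} {sC : P ⟶ Spec C}
    (H : IsPullback sX sC iX (Spec.map φ)) :
    IsPushout ((Scheme.ΓSpecIso B).inv ≫ iX.appTop) φ sX.appTop ((Scheme.ΓSpecIso C).inv ≫ sC.appTop) := by
  haveI : Flat (Spec.map φ) := Flat.SpecMap_iff.2 hφ
  have hUY : (⊤ : P.Opens) = sX ⁻¹ᵁ ⊤ ⊓ sC ⁻¹ᵁ ⊤ := by simp
  have h := isIso_pushoutSection_of_isQuasiSeparated_of_flat_right H (US := ⊤) (UT := ⊤) (UX := ⊤)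
    (by simp) (by simp) hUY (isAffineOpen_top _) (isAffineOpen_top _) isCompact_univ
    (isQuasiSeparated_univ_iff.2 ‹_›)
  have hp : IsPushout iX.appTop (Spec.map φ).appTop sX.appTop sC.appTop := by
    have := (isIso_pushoutSection_iff H _ _ hUY).1 h
    simp only [appLE_top] at this
    exact this
  refine hp.of_iso (Scheme.ΓSpecIso B) (Iso.refl _) (Scheme.ΓSpecIso C) (Iso.refl _) ?_ ?_ ?_ ?_
  · simp
  · exact (Scheme.ΓSpecIso_naturality φ)
  · simp
  · simp

/-- In a pushout square along a flat map, the kernel of the new map is extended from the old one. -/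
theorem ker_le_map_of_isPushout {B R C Q : Type u} [CommRing B] [CommRing R] [CommRing C] [CommRing Q]
    [Algebra B R] [Algebra B C] [Module.Flat B C] {c : CommRingCat.of R ⟶ CommRingCat.of Q}
    {d : CommRingCat.of C ⟶ CommRingCat.of Q}
    (h : IsPushout (CommRingCat.ofHom (algebraMap B R)) (CommRingCat.ofHom (algebraMap B C)) c d) :
    RingHom.ker d.hom ≤ (RingHom.ker (algebraMap B R)).map (algebraMap B C) := by
  set K := RingHom.ker (algebraMap B R)
  intro x hx
  have hx0 : x ⊗ₜ[B] (1 : R) = 0 := by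
    have hT := CommRingCat.isPushout_tensorProduct B C R
    let e := h.flip.isoIsPushout _ _ hT
    have he : d ≫ e.hom = CommRingCat.ofHom Algebra.TensorProduct.includeLeftRingHom :=
      h.flip.inl_isoIsPushout_hom _ _ hT
    have : e.hom (d x) = x ⊗ₜ[B] (1 : R) := congrArg (fun φ : CommRingCat.of C ⟶ _ => φ x) he
    rw [← this, show d x = 0 from hx, map_zero]
  have hex : Function.Exact (Submodule.subtype K) (Algebra.linearMap B R) := fun b => by
    constructor
    · intro hb; exact ⟨⟨b, hb⟩, rfl⟩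
    · rintro ⟨k, rfl⟩; exact k.2
  obtain ⟨z, hz⟩ := (Module.Flat.lTensor_exact C hex (x ⊗ₜ[B] (1 : B))).1 (by simpa using hx0)
  have hz' : TensorProduct.rid B C ((Submodule.subtype K).lTensor C z) = x := by
    rw [hz]; simp
  rw [← hz']
  clear hz hz' hx0 hx
  induction z using TensorProduct.induction_on with
  | zero => simp
  | tmul y k =>
    simp only [LinearMap.lTensor_tmul, Submodule.subtype_apply, TensorProduct.rid_tmul, Algebra.smul_def]
    exact Ideal.mul_mem_right _ _ (Ideal.mem_map_of_mem _ k.2)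
  | add z w hz hw =>
    simp only [map_add]
    exact add_mem hz hw

end Groth.Agent.HenselCouple
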