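import Groth.Agent.HenselCouple.Lift
import Groth.Agent.HenselCouple.FlatBC

/-!
# Global sections of a henselian couple form a henselian pair
-/

noncomputable section

universe u

open CategoryTheory Limits AlgebraicGeometry TopologicalSpace Opposite Polynomial

namespace Groth.Agent.HenselCouple

theorem preimage_basicOpen_top' {P Q : Scheme.{u}} (q : Q ⟶ P) (e : Γ(P, ⊤)) :
    q.base ⁻¹' (P.basicOpen e : Set P) = (Q.basicOpen (q.appTop e) : Set Q) :=
  congrArg SetLike.coe (Scheme.preimage_basicOpen_top q e)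

theorem isFinite_fst_spec {X : Scheme.{u}} {B C : CommRingCat.{u}} (iX : X ⟶ Spec B) (φ : B ⟶ C)
    (hφ : φ.hom.Finite) : IsFinite (pullback.fst iX (Spec.map φ)) :=
  MorphismProperty.pullback_fst (P := @IsFinite) _ _ ((IsFinite.SpecMap_iff _).2 hφ)

variable {X X₀ : Scheme.{u}} (i : X₀ ⟶ X) [IsClosedImmersion i] [CompactSpace X] [QuasiSeparatedSpace X]

theorem le_jacobson_of_couple (hX : ∀ (Y : Scheme.{u}) (g : Y ⟶ X), IsFinite g →
      ∀ V : Set ↥(pullback g i), IsClopen V →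
        ∃! U : Set ↥Y, IsClopen U ∧ (pullback.fst g i).base ⁻¹' U = V) :
    RingHom.ker i.appTop.hom ≤ Ideal.jacobson ⊥ := by
  intro x hx
  rw [Ideal.mem_jacobson_bot]
  intro y
  set u := x * y + 1 with hu
  set φ : Γ(X, ⊤) ⟶ CommRingCat.of (Γ(X, ⊤) ⧸ Ideal.span {u}) :=
    CommRingCat.ofHom (Ideal.Quotient.mk (Ideal.span {u}))
  haveI := isFinite_fst_spec X.toSpecΓ φ (RingHom.Finite.of_surjective _ Ideal.Quotient.mk_surjective)
  set g := pullback.fst X.toSpecΓ (Spec.map φ)
  have hsq : X.toSpecΓ.appTop ≫ g.appTop = (Spec.map φ).appTop ≫ (pullback.snd X.toSpecΓ (Spec.map φ)).appTop := by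
    rw [← Scheme.Hom.comp_appTop, pullback.condition, Scheme.Hom.comp_appTop]
  have hgu : g.appTop u = 0 := by
    have h2 := congrArg ((Scheme.ΓSpecIso Γ(X, ⊤)).inv ≫ ·) hsq
    simp only [Scheme.toSpecΓ_appTop, Iso.inv_hom_id_assoc] at h2
    rw [← Scheme.ΓSpecIso_inv_naturality_assoc] at h2
    rw [h2]
    show (pullback.snd X.toSpecΓ (Spec.map φ)).appTop.hom
      ((Scheme.ΓSpecIso _).inv.hom (Ideal.Quotient.mk (Ideal.span {u}) u)) = 0
    rw [Ideal.Quotient.eq_zero_iff_mem.2 (Ideal.mem_span_singleton_self u), map_zero, map_zero]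
  have h01 : (0 : Γ(pullback g i, ⊤)) = 1 := by
    have h := congrArg (fun ψ : Γ(X, ⊤) ⟶ Γ(pullback g i, ⊤) => ψ u)
      (show g.appTop ≫ (pullback.fst g i).appTop = i.appTop ≫ (pullback.snd g i).appTop by
        rw [← Scheme.Hom.comp_appTop, pullback.condition, Scheme.Hom.comp_appTop])
    simp only [CommRingCat.comp_apply] at h
    have hiu : i.appTop u = 1 := by
      show i.appTop (x * y + 1) = 1
      rw [map_add, map_mul, show i.appTop x = 0 from hx, zero_mul, zero_add, map_one]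
    rw [hgu, map_zero, hiu, map_one] at h
    exact h
  have hem : ∀ p : ↥(pullback g i), False := fun p => by
    have := congrArg ((pullback g i).presheaf.germ ⊤ p (Set.mem_univ p)) h01
    rw [map_zero, map_one] at this
    exact zero_ne_one this
  have hP := (hX _ g inferInstance ∅ isClopen_empty).unique (y₁ := Set.univ) (y₂ := ∅)
    ⟨isClopen_univ, Set.eq_empty_of_forall_notMem fun p _ => hem p⟩ ⟨isClopen_empty, Set.preimage_empty⟩
  refine X.toRingedSpace.isUnit_of_isUnit_germ ⊤ u fun z hz => ?_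
  refine (X.mem_basicOpen u z hz).1 ?_
  rw [← X.toSpecΓ_preimage_basicOpen u]
  show u ∉ (X.toSpecΓ z).asIdeal
  intro hzu
  have : z ∈ Set.range g := by
    rw [Scheme.Pullback.range_fst]
    refine (Set.ext_iff.1 (range_comap_of_surjective _ (Ideal.Quotient.mk (Ideal.span {u}))
      Ideal.Quotient.mk_surjective) _).2 ?_
    rw [Ideal.mk_ker]
    exact (Ideal.span_singleton_le_iff_mem _).2 hzu
  obtain ⟨p, -⟩ := this
  exact Set.notMem_empty p (hP ▸ Set.mem_univ p)

theorem henselianRing_of_couple (hX : ∀ (Y : Scheme.{u}) (g : Y ⟶ X), IsFinite g →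
      ∀ V : Set ↥(pullback g i), IsClopen V →
        ∃! U : Set ↥Y, IsClopen U ∧ (pullback.fst g i).base ⁻¹' U = V) :
    HenselianRing (Γ(X, ⊤) : Type u) (RingHom.ker i.appTop.hom) := by
  haveI : CompactSpace X₀ := QuasiCompact.compactSpace_of_compactSpace i
  haveI : QuasiSeparatedSpace X₀ := quasiSeparatedSpace_of_quasiSeparated i
  refine (Hensel.gabberRoot_of_adjoinRoot_idem_lift (le_jacobson_of_couple i hX) fun m p hp _ x hx => ?_).henselianRing
  obtain ⟨b, rfl⟩ := Ideal.Quotient.mk_surjective x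
  haveI := hp.free_adjoinRoot
  haveI := hp.finite_adjoinRoot
  set φ : Γ(X, ⊤) ⟶ CommRingCat.of (AdjoinRoot p) := CommRingCat.ofHom (algebraMap Γ(X, ⊤) (AdjoinRoot p))
  have hφ : φ.hom.Flat := RingHom.flat_algebraMap_iff.2 inferInstance
  haveI := isFinite_fst_spec X.toSpecΓ φ (RingHom.finite_algebraMap.2 inferInstance)
  set g := pullback.fst X.toSpecΓ (Spec.map φ)
  set sC := pullback.snd X.toSpecΓ (Spec.map φ)
  set q := pullback.fst g i
  set qs := pullback.snd g i
  have hP := isPushout_of_flat X.toSpecΓ φ hφ (IsPullback.of_hasPullback X.toSpecΓ (Spec.map φ))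
  rw [Scheme.toSpecΓ_appTop, Iso.inv_hom_id] at hP
  haveI hiso := hP.isIso_inr_of_isIso
  have hQ := isPushout_of_flat (i ≫ X.toSpecΓ) φ hφ
    ((IsPullback.of_hasPullback g i).flip.paste_vert (IsPullback.of_hasPullback X.toSpecΓ (Spec.map φ)))
  rw [Scheme.Hom.comp_appTop, Scheme.toSpecΓ_appTop, Iso.inv_hom_id_assoc, Scheme.Hom.comp_appTop] at hQ
  set dP := (Scheme.ΓSpecIso (CommRingCat.of (AdjoinRoot p))).inv ≫ sC.appTop with hdP
  rw [← Category.assoc, ← hdP] at hQ
  set dQ := dP ≫ q.appTop with hdQ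
  have hker : RingHom.ker dQ.hom ≤
      (RingHom.ker i.appTop.hom).map (algebraMap Γ(X, ⊤) (AdjoinRoot p)) := by
    letI := i.appTop.hom.toAlgebra
    exact ker_le_map_of_isPushout (B := Γ(X, ⊤)) (R := Γ(X₀, ⊤)) hQ
  have hmap : (RingHom.ker i.appTop.hom).map (algebraMap Γ(X, ⊤) (AdjoinRoot p)) ≤ RingHom.ker dQ.hom := by
    rw [Ideal.map_le_iff_le_comap]
    intro a ha
    rw [Ideal.mem_comap, RingHom.mem_ker]
    refine (RingHom.congr_fun (congrArg CommRingCat.Hom.hom hQ.w.symm) a).trans ?_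
    rw [CommRingCat.comp_apply, show i.appTop a = 0 from ha, map_zero]
  have hb : IsIdempotentElem (dQ b) := by
    have h1 : dQ (b * b - b) = 0 := hmap (Ideal.Quotient.eq.1 ((map_mul _ _ _).trans hx))
    rw [map_sub, map_mul, sub_eq_zero] at h1
    exact h1
  obtain ⟨U, ⟨hU, hUV⟩, -⟩ := hX _ g inferInstance _ (isClopen_basicOpen hb)
  obtain ⟨e', he', rfl⟩ := exists_idem_basicOpen hU
  obtain ⟨e, rfl⟩ := (ConcreteCategory.bijective_of_isIso dP).2 e'
  have he : IsIdempotentElem e := by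
    refine (ConcreteCategory.bijective_of_isIso dP).1 ?_
    rw [map_mul]; exact he'.eq
  refine ⟨e, he, Ideal.Quotient.eq.2 (hker ?_)⟩
  rw [RingHom.mem_ker, map_sub, sub_eq_zero]
  refine eq_of_idem_basicOpen_eq (he.map dQ.hom) hb (SetLike.coe_injective ?_)
  rw [← hUV, preimage_basicOpen_top']
  rfl

end Groth.Agent.HenselCouple
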