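import Groth.Agent.HenselCouple.Basic

/-!
# Henselian couples over henselian pairs
-/

noncomputable section

universe u

open CategoryTheory Limits AlgebraicGeometry TopologicalSpace Opposite

namespace Groth.Agent.HenselCouple

variable {A : Type u} [CommRing A] {X : Scheme.{u}}

theorem algMap_comp {Y : Scheme.{u}} (g : Y ⟶ X) (f : X ⟶ Spec (CommRingCat.of A)) :
    algMap (g ≫ f) = g.appTop.hom.comp (algMap f) := rfl

theorem map_algMap_le_ker (I : Ideal A) (f : X ⟶ Spec (CommRingCat.of A)) :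
    I.map (algMap f) ≤ RingHom.ker
      (pullback.fst f (Spec.map (CommRingCat.ofHom (Ideal.Quotient.mk I)))).appTop.hom := by
  rw [Ideal.map_le_iff_le_comap]
  intro a ha
  rw [Ideal.mem_comap, RingHom.mem_ker]
  have hsq : (Scheme.ΓSpecIso (CommRingCat.of A)).inv ≫ f.appTop ≫
      (pullback.fst f (Spec.map (CommRingCat.ofHom (Ideal.Quotient.mk I)))).appTop =
      CommRingCat.ofHom (Ideal.Quotient.mk I) ≫ (Scheme.ΓSpecIso (CommRingCat.of (A ⧸ I))).inv ≫
      (pullback.snd f (Spec.map (CommRingCat.ofHom (Ideal.Quotient.mk I)))).appTop := by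
    rw [← Scheme.Hom.comp_appTop, pullback.condition, Scheme.Hom.comp_appTop,
      Scheme.ΓSpecIso_inv_naturality_assoc]
  refine (congrArg (fun φ : CommRingCat.of A ⟶ _ => φ a) hsq).trans ?_
  show (pullback.snd f (Spec.map (CommRingCat.ofHom (Ideal.Quotient.mk I)))).appTop.hom
    ((Scheme.ΓSpecIso (CommRingCat.of (A ⧸ I))).inv.hom (Ideal.Quotient.mk I a)) = 0
  rw [Ideal.Quotient.eq_zero_iff_mem.2 ha, map_zero, map_zero]

theorem range_spec_quotient (I : Ideal A) :
    Set.range (Spec.map (CommRingCat.ofHom (Ideal.Quotient.mk I))) =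
      (PrimeSpectrum.zeroLocus (I : Set A) : Set (PrimeSpectrum A)) := by
  refine (range_comap_of_surjective _ _ Ideal.Quotient.mk_surjective).trans ?_
  rw [Ideal.mk_ker]

theorem range_fst_fst (I : Ideal A) (f : X ⟶ Spec (CommRingCat.of A)) {Y : Scheme.{u}} (g : Y ⟶ X) :
    Set.range (pullback.fst g (pullback.fst f (Spec.map (CommRingCat.ofHom (Ideal.Quotient.mk I))))) =
      (g ≫ f) ⁻¹' PrimeSpectrum.zeroLocus (I : Set A) := by
  rw [Scheme.Pullback.range_fst, Scheme.Pullback.range_fst, range_spec_quotient]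
  rfl

theorem isClosedImmersion_spec_quotient (I : Ideal A) :
    IsClosedImmersion (Spec.map (CommRingCat.ofHom (Ideal.Quotient.mk I))) :=
  IsClosedImmersion.spec_of_surjective _ Ideal.Quotient.mk_surjective

theorem isClosedEmbedding_fst_fst (I : Ideal A) (f : X ⟶ Spec (CommRingCat.of A)) {Y : Scheme.{u}}
    (g : Y ⟶ X) : Topology.IsClosedEmbedding
      (pullback.fst g (pullback.fst f (Spec.map (CommRingCat.ofHom (Ideal.Quotient.mk I))))) :=
  haveI := isClosedImmersion_spec_quotient I
  (pullback.fst g (pullback.fst f (Spec.map (CommRingCat.ofHom (Ideal.Quotient.mk I))))).isClosedEmbedding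

variable [IsNoetherianRing A]

/-- `X` proper over a noetherian `A` with `(Γ(X), I Γ(X))` henselian. -/
theorem clopenLift_of_henselianRing (I : Ideal A) (f : X ⟶ Spec (CommRingCat.of A)) [IsProper f]
    [h : HenselianRing (Γ(X, ⊤) : Type u) (I.map (algMap f))] (Y : Scheme.{u}) (g : Y ⟶ X)
    [IsFinite g]
    (V : Set ↥(pullback g (pullback.fst f (Spec.map (CommRingCat.ofHom (Ideal.Quotient.mk I))))))
    (hV : IsClopen V) :
    ∃! U : Set ↥Y, IsClopen U ∧
      (pullback.fst g (pullback.fst f (Spec.map (CommRingCat.ofHom (Ideal.Quotient.mk I))))).base ⁻¹' U = V := by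
  letI := g.appTop.hom.toAlgebra
  haveI : Module.Finite Γ(X, ⊤) Γ(Y, ⊤) := RingHom.finite_algebraMap.1
    (RingHom.Finite.of_comp_finite (f := algMap f) (algMap_comp g f ▸ finite_algMap (g ≫ f)))
  refine existsUnique_clopen_of_bijOn (g ≫ f) (toSpecΓ_connFibres (g ≫ f)) I ?_ _
    (isClosedEmbedding_fst_fst I f g) (range_fst_fst I f g) V hV
  rw [algMap_comp, ← Ideal.map_map]
  exact Hensel.idempotents_bijOn (Hensel.gabberRoot_of_henselianRing (I := I.map (algMap f))) Γ(Y, ⊤)

theorem henselianRing_map_algMap (I : Ideal A) [HenselianRing A I]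
    (f : X ⟶ Spec (CommRingCat.of A)) [IsProper f] :
    HenselianRing (Γ(X, ⊤) : Type u) (I.map (algMap f)) := by
  letI := (algMap f).toAlgebra
  haveI : Module.Finite A Γ(X, ⊤) := RingHom.finite_algebraMap.1 (finite_algMap f)
  exact Hensel.henselianRing_of_isIntegral (I := I) Γ(X, ⊤)

end Groth.Agent.HenselCouple
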